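import Cfsg.Agent.Lib.ThreeTrans.CosetIndex.Suz22880.Data
import Cfsg.Agent.Lib.ThreeTrans.CosetIndex.Suz22880.Proofs
import Cfsg.Agent.Lib.ThreeTrans.CosetIndex.Suz22880.ValidA
import Cfsg.Agent.Lib.ThreeTrans.CosetIndex.Suz22880.ValidB
import Cfsg.Agent.Lib.ThreeTrans.CosetIndex.Suz22880.ValidC

set_option autoImplicit false
set_option maxRecDepth 20000
set_option Elab.async false

/-!
Checks of the enumeration for 1681 (owner: helper28).
-/

namespace CfsgLib.ThreeTrans.CosetIndex.Suz22880

theorem valid : data.Valid where
  base := by decide +kernel
  defs i hi := forallFrom_elim defs_ok (Nat.zero_le i) (by simp only [data] at hi; omega)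
  steps i h1 h2 := by
    simp only [data] at h1 h2
    by_cases c0 : i < 32087
    · exact stepsOK_elim steps0 i (by omega) (by rw [len0]; omega)
    by_cases c1 : i < 33087
    · exact stepsOK_elim steps1 i (by omega) (by rw [len1]; omega)
    by_cases c2 : i < 34087
    · exact stepsOK_elim steps2 i (by omega) (by rw [len2]; omega)
    by_cases c3 : i < 35087
    · exact stepsOK_elim steps3 i (by omega) (by rw [len3]; omega)
    by_cases c4 : i < 36087
    · exact stepsOK_elim steps4 i (by omega) (by rw [len4]; omega)
    by_cases c5 : i < 37087
    · exact stepsOK_elim steps5 i (by omega) (by rw [len5]; omega)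
    by_cases c6 : i < 38087
    · exact stepsOK_elim steps6 i (by omega) (by rw [len6]; omega)
    by_cases c7 : i < 39087
    · exact stepsOK_elim steps7 i (by omega) (by rw [len7]; omega)
    by_cases c8 : i < 40087
    · exact stepsOK_elim steps8 i (by omega) (by rw [len8]; omega)
    by_cases c9 : i < 41087
    · exact stepsOK_elim steps9 i (by omega) (by rw [len9]; omega)
    by_cases c10 : i < 42087
    · exact stepsOK_elim steps10 i (by omega) (by rw [len10]; omega)
    by_cases c11 : i < 43087
    · exact stepsOK_elim steps11 i (by omega) (by rw [len11]; omega)
    by_cases c12 : i < 44087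
    · exact stepsOK_elim steps12 i (by omega) (by rw [len12]; omega)
    by_cases c13 : i < 45087
    · exact stepsOK_elim steps13 i (by omega) (by rw [len13]; omega)
    by_cases c14 : i < 46087
    · exact stepsOK_elim steps14 i (by omega) (by rw [len14]; omega)
    by_cases c15 : i < 47087
    · exact stepsOK_elim steps15 i (by omega) (by rw [len15]; omega)
    by_cases c16 : i < 48087
    · exact stepsOK_elim steps16 i (by omega) (by rw [len16]; omega)
    by_cases c17 : i < 49087
    · exact stepsOK_elim steps17 i (by omega) (by rw [len17]; omega)
    by_cases c18 : i < 50087
    · exact stepsOK_elim steps18 i (by omega) (by rw [len18]; omega)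
    by_cases c19 : i < 51087
    · exact stepsOK_elim steps19 i (by omega) (by rw [len19]; omega)
    by_cases c20 : i < 52087
    · exact stepsOK_elim steps20 i (by omega) (by rw [len20]; omega)
    by_cases c21 : i < 53087
    · exact stepsOK_elim steps21 i (by omega) (by rw [len21]; omega)
    by_cases c22 : i < 54087
    · exact stepsOK_elim steps22 i (by omega) (by rw [len22]; omega)
    by_cases c23 : i < 55087
    · exact stepsOK_elim steps23 i (by omega) (by rw [len23]; omega)
    by_cases c24 : i < 56087
    · exact stepsOK_elim steps24 i (by omega) (by rw [len24]; omega)
    by_cases c25 : i < 57087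
    · exact stepsOK_elim steps25 i (by omega) (by rw [len25]; omega)
    by_cases c26 : i < 58087
    · exact stepsOK_elim steps26 i (by omega) (by rw [len26]; omega)
    by_cases c27 : i < 59087
    · exact stepsOK_elim steps27 i (by omega) (by rw [len27]; omega)
    by_cases c28 : i < 60087
    · exact stepsOK_elim steps28 i (by omega) (by rw [len28]; omega)
    by_cases c29 : i < 61087
    · exact stepsOK_elim steps29 i (by omega) (by rw [len29]; omega)
    by_cases c30 : i < 62087
    · exact stepsOK_elim steps30 i (by omega) (by rw [len30]; omega)
    by_cases c31 : i < 63087
    · exact stepsOK_elim steps31 i (by omega) (by rw [len31]; omega)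
    by_cases c32 : i < 64087
    · exact stepsOK_elim steps32 i (by omega) (by rw [len32]; omega)
    by_cases c33 : i < 65087
    · exact stepsOK_elim steps33 i (by omega) (by rw [len33]; omega)
    by_cases c34 : i < 66087
    · exact stepsOK_elim steps34 i (by omega) (by rw [len34]; omega)
    by_cases c35 : i < 67087
    · exact stepsOK_elim steps35 i (by omega) (by rw [len35]; omega)
    by_cases c36 : i < 68087
    · exact stepsOK_elim steps36 i (by omega) (by rw [len36]; omega)
    by_cases c37 : i < 69087
    · exact stepsOK_elim steps37 i (by omega) (by rw [len37]; omega)
    by_cases c38 : i < 70087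
    · exact stepsOK_elim steps38 i (by omega) (by rw [len38]; omega)
    by_cases c39 : i < 71087
    · exact stepsOK_elim steps39 i (by omega) (by rw [len39]; omega)
    by_cases c40 : i < 72087
    · exact stepsOK_elim steps40 i (by omega) (by rw [len40]; omega)
    by_cases c41 : i < 73087
    · exact stepsOK_elim steps41 i (by omega) (by rw [len41]; omega)
    by_cases c42 : i < 74087
    · exact stepsOK_elim steps42 i (by omega) (by rw [len42]; omega)
    by_cases c43 : i < 75087
    · exact stepsOK_elim steps43 i (by omega) (by rw [len43]; omega)
    by_cases c44 : i < 76087
    · exact stepsOK_elim steps44 i (by omega) (by rw [len44]; omega)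
    by_cases c45 : i < 77087
    · exact stepsOK_elim steps45 i (by omega) (by rw [len45]; omega)
    by_cases c46 : i < 78087
    · exact stepsOK_elim steps46 i (by omega) (by rw [len46]; omega)
    by_cases c47 : i < 79087
    · exact stepsOK_elim steps47 i (by omega) (by rw [len47]; omega)
    by_cases c48 : i < 80087
    · exact stepsOK_elim steps48 i (by omega) (by rw [len48]; omega)
    by_cases c49 : i < 81087
    · exact stepsOK_elim steps49 i (by omega) (by rw [len49]; omega)
    by_cases c50 : i < 82087
    · exact stepsOK_elim steps50 i (by omega) (by rw [len50]; omega)
    by_cases c51 : i < 83087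
    · exact stepsOK_elim steps51 i (by omega) (by rw [len51]; omega)
    by_cases c52 : i < 84087
    · exact stepsOK_elim steps52 i (by omega) (by rw [len52]; omega)
    by_cases c53 : i < 85087
    · exact stepsOK_elim steps53 i (by omega) (by rw [len53]; omega)
    by_cases c54 : i < 86087
    · exact stepsOK_elim steps54 i (by omega) (by rw [len54]; omega)
    by_cases c55 : i < 87087
    · exact stepsOK_elim steps55 i (by omega) (by rw [len55]; omega)
    by_cases c56 : i < 88087
    · exact stepsOK_elim steps56 i (by omega) (by rw [len56]; omega)
    by_cases c57 : i < 89087
    · exact stepsOK_elim steps57 i (by omega) (by rw [len57]; omega)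
    by_cases c58 : i < 90087
    · exact stepsOK_elim steps58 i (by omega) (by rw [len58]; omega)
    by_cases c59 : i < 91087
    · exact stepsOK_elim steps59 i (by omega) (by rw [len59]; omega)
    by_cases c60 : i < 92087
    · exact stepsOK_elim steps60 i (by omega) (by rw [len60]; omega)
    by_cases c61 : i < 93087
    · exact stepsOK_elim steps61 i (by omega) (by rw [len61]; omega)
    by_cases c62 : i < 94087
    · exact stepsOK_elim steps62 i (by omega) (by rw [len62]; omega)
    by_cases c63 : i < 95087
    · exact stepsOK_elim steps63 i (by omega) (by rw [len63]; omega)
    by_cases c64 : i < 96087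
    · exact stepsOK_elim steps64 i (by omega) (by rw [len64]; omega)
    by_cases c65 : i < 97087
    · exact stepsOK_elim steps65 i (by omega) (by rw [len65]; omega)
    by_cases c66 : i < 98087
    · exact stepsOK_elim steps66 i (by omega) (by rw [len66]; omega)
    by_cases c67 : i < 99087
    · exact stepsOK_elim steps67 i (by omega) (by rw [len67]; omega)
    by_cases c68 : i < 100087
    · exact stepsOK_elim steps68 i (by omega) (by rw [len68]; omega)
    by_cases c69 : i < 101087
    · exact stepsOK_elim steps69 i (by omega) (by rw [len69]; omega)
    by_cases c70 : i < 102087
    · exact stepsOK_elim steps70 i (by omega) (by rw [len70]; omega)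
    by_cases c71 : i < 103087
    · exact stepsOK_elim steps71 i (by omega) (by rw [len71]; omega)
    exact stepsOK_elim steps72 i (by omega) (by rw [len72]; omega)
  rows c hc := by
    simp only [data] at hc
    by_cases c0 : c < 500
    · exact forallFrom_elim rows0 (start := 0) (by omega) (by omega)
    by_cases c1 : c < 1000
    · exact forallFrom_elim rows1 (start := 500) (by omega) (by omega)
    by_cases c2 : c < 1500
    · exact forallFrom_elim rows2 (start := 1000) (by omega) (by omega)
    by_cases c3 : c < 2000
    · exact forallFrom_elim rows3 (start := 1500) (by omega) (by omega)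
    by_cases c4 : c < 2500
    · exact forallFrom_elim rows4 (start := 2000) (by omega) (by omega)
    by_cases c5 : c < 3000
    · exact forallFrom_elim rows5 (start := 2500) (by omega) (by omega)
    by_cases c6 : c < 3500
    · exact forallFrom_elim rows6 (start := 3000) (by omega) (by omega)
    by_cases c7 : c < 4000
    · exact forallFrom_elim rows7 (start := 3500) (by omega) (by omega)
    by_cases c8 : c < 4500
    · exact forallFrom_elim rows8 (start := 4000) (by omega) (by omega)
    by_cases c9 : c < 5000
    · exact forallFrom_elim rows9 (start := 4500) (by omega) (by omega)
    by_cases c10 : c < 5500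
    · exact forallFrom_elim rows10 (start := 5000) (by omega) (by omega)
    by_cases c11 : c < 6000
    · exact forallFrom_elim rows11 (start := 5500) (by omega) (by omega)
    by_cases c12 : c < 6500
    · exact forallFrom_elim rows12 (start := 6000) (by omega) (by omega)
    by_cases c13 : c < 7000
    · exact forallFrom_elim rows13 (start := 6500) (by omega) (by omega)
    by_cases c14 : c < 7500
    · exact forallFrom_elim rows14 (start := 7000) (by omega) (by omega)
    by_cases c15 : c < 8000
    · exact forallFrom_elim rows15 (start := 7500) (by omega) (by omega)
    by_cases c16 : c < 8500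
    · exact forallFrom_elim rows16 (start := 8000) (by omega) (by omega)
    by_cases c17 : c < 9000
    · exact forallFrom_elim rows17 (start := 8500) (by omega) (by omega)
    by_cases c18 : c < 9500
    · exact forallFrom_elim rows18 (start := 9000) (by omega) (by omega)
    by_cases c19 : c < 10000
    · exact forallFrom_elim rows19 (start := 9500) (by omega) (by omega)
    by_cases c20 : c < 10500
    · exact forallFrom_elim rows20 (start := 10000) (by omega) (by omega)
    by_cases c21 : c < 11000
    · exact forallFrom_elim rows21 (start := 10500) (by omega) (by omega)
    by_cases c22 : c < 11500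
    · exact forallFrom_elim rows22 (start := 11000) (by omega) (by omega)
    by_cases c23 : c < 12000
    · exact forallFrom_elim rows23 (start := 11500) (by omega) (by omega)
    by_cases c24 : c < 12500
    · exact forallFrom_elim rows24 (start := 12000) (by omega) (by omega)
    by_cases c25 : c < 13000
    · exact forallFrom_elim rows25 (start := 12500) (by omega) (by omega)
    by_cases c26 : c < 13500
    · exact forallFrom_elim rows26 (start := 13000) (by omega) (by omega)
    by_cases c27 : c < 14000
    · exact forallFrom_elim rows27 (start := 13500) (by omega) (by omega)
    by_cases c28 : c < 14500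
    · exact forallFrom_elim rows28 (start := 14000) (by omega) (by omega)
    by_cases c29 : c < 15000
    · exact forallFrom_elim rows29 (start := 14500) (by omega) (by omega)
    by_cases c30 : c < 15500
    · exact forallFrom_elim rows30 (start := 15000) (by omega) (by omega)
    by_cases c31 : c < 16000
    · exact forallFrom_elim rows31 (start := 15500) (by omega) (by omega)
    by_cases c32 : c < 16500
    · exact forallFrom_elim rows32 (start := 16000) (by omega) (by omega)
    by_cases c33 : c < 17000
    · exact forallFrom_elim rows33 (start := 16500) (by omega) (by omega)
    by_cases c34 : c < 17500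
    · exact forallFrom_elim rows34 (start := 17000) (by omega) (by omega)
    by_cases c35 : c < 18000
    · exact forallFrom_elim rows35 (start := 17500) (by omega) (by omega)
    by_cases c36 : c < 18500
    · exact forallFrom_elim rows36 (start := 18000) (by omega) (by omega)
    by_cases c37 : c < 19000
    · exact forallFrom_elim rows37 (start := 18500) (by omega) (by omega)
    by_cases c38 : c < 19500
    · exact forallFrom_elim rows38 (start := 19000) (by omega) (by omega)
    by_cases c39 : c < 20000
    · exact forallFrom_elim rows39 (start := 19500) (by omega) (by omega)
    by_cases c40 : c < 20500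
    · exact forallFrom_elim rows40 (start := 20000) (by omega) (by omega)
    by_cases c41 : c < 21000
    · exact forallFrom_elim rows41 (start := 20500) (by omega) (by omega)
    by_cases c42 : c < 21500
    · exact forallFrom_elim rows42 (start := 21000) (by omega) (by omega)
    by_cases c43 : c < 22000
    · exact forallFrom_elim rows43 (start := 21500) (by omega) (by omega)
    by_cases c44 : c < 22500
    · exact forallFrom_elim rows44 (start := 22000) (by omega) (by omega)
    exact forallFrom_elim rows45 (start := 22500) (by omega) (by omega)
  finals i h2 := by
    simp only [data] at h2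
    by_cases c0 : i < 2000
    · exact data.finalsOK_elim finals0 i (by omega) (by rw [flen0]; omega)
    by_cases c1 : i < 4000
    · exact data.finalsOK_elim finals1 i (by omega) (by rw [flen1]; omega)
    by_cases c2 : i < 6000
    · exact data.finalsOK_elim finals2 i (by omega) (by rw [flen2]; omega)
    by_cases c3 : i < 8000
    · exact data.finalsOK_elim finals3 i (by omega) (by rw [flen3]; omega)
    by_cases c4 : i < 10000
    · exact data.finalsOK_elim finals4 i (by omega) (by rw [flen4]; omega)
    by_cases c5 : i < 12000
    · exact data.finalsOK_elim finals5 i (by omega) (by rw [flen5]; omega)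
    by_cases c6 : i < 14000
    · exact data.finalsOK_elim finals6 i (by omega) (by rw [flen6]; omega)
    by_cases c7 : i < 16000
    · exact data.finalsOK_elim finals7 i (by omega) (by rw [flen7]; omega)
    by_cases c8 : i < 18000
    · exact data.finalsOK_elim finals8 i (by omega) (by rw [flen8]; omega)
    by_cases c9 : i < 20000
    · exact data.finalsOK_elim finals9 i (by omega) (by rw [flen9]; omega)
    by_cases c10 : i < 22000
    · exact data.finalsOK_elim finals10 i (by omega) (by rw [flen10]; omega)
    by_cases c11 : i < 24000
    · exact data.finalsOK_elim finals11 i (by omega) (by rw [flen11]; omega)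
    by_cases c12 : i < 26000
    · exact data.finalsOK_elim finals12 i (by omega) (by rw [flen12]; omega)
    by_cases c13 : i < 28000
    · exact data.finalsOK_elim finals13 i (by omega) (by rw [flen13]; omega)
    by_cases c14 : i < 30000
    · exact data.finalsOK_elim finals14 i (by omega) (by rw [flen14]; omega)
    by_cases c15 : i < 32000
    · exact data.finalsOK_elim finals15 i (by omega) (by rw [flen15]; omega)
    by_cases c16 : i < 34000
    · exact data.finalsOK_elim finals16 i (by omega) (by rw [flen16]; omega)
    by_cases c17 : i < 36000
    · exact data.finalsOK_elim finals17 i (by omega) (by rw [flen17]; omega)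
    by_cases c18 : i < 38000
    · exact data.finalsOK_elim finals18 i (by omega) (by rw [flen18]; omega)
    by_cases c19 : i < 40000
    · exact data.finalsOK_elim finals19 i (by omega) (by rw [flen19]; omega)
    by_cases c20 : i < 42000
    · exact data.finalsOK_elim finals20 i (by omega) (by rw [flen20]; omega)
    by_cases c21 : i < 44000
    · exact data.finalsOK_elim finals21 i (by omega) (by rw [flen21]; omega)
    by_cases c22 : i < 46000
    · exact data.finalsOK_elim finals22 i (by omega) (by rw [flen22]; omega)
    by_cases c23 : i < 48000
    · exact data.finalsOK_elim finals23 i (by omega) (by rw [flen23]; omega)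
    by_cases c24 : i < 50000
    · exact data.finalsOK_elim finals24 i (by omega) (by rw [flen24]; omega)
    by_cases c25 : i < 52000
    · exact data.finalsOK_elim finals25 i (by omega) (by rw [flen25]; omega)
    by_cases c26 : i < 54000
    · exact data.finalsOK_elim finals26 i (by omega) (by rw [flen26]; omega)
    by_cases c27 : i < 56000
    · exact data.finalsOK_elim finals27 i (by omega) (by rw [flen27]; omega)
    by_cases c28 : i < 58000
    · exact data.finalsOK_elim finals28 i (by omega) (by rw [flen28]; omega)
    by_cases c29 : i < 60000
    · exact data.finalsOK_elim finals29 i (by omega) (by rw [flen29]; omega)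
    by_cases c30 : i < 62000
    · exact data.finalsOK_elim finals30 i (by omega) (by rw [flen30]; omega)
    by_cases c31 : i < 64000
    · exact data.finalsOK_elim finals31 i (by omega) (by rw [flen31]; omega)
    by_cases c32 : i < 66000
    · exact data.finalsOK_elim finals32 i (by omega) (by rw [flen32]; omega)
    by_cases c33 : i < 68000
    · exact data.finalsOK_elim finals33 i (by omega) (by rw [flen33]; omega)
    by_cases c34 : i < 70000
    · exact data.finalsOK_elim finals34 i (by omega) (by rw [flen34]; omega)
    by_cases c35 : i < 72000
    · exact data.finalsOK_elim finals35 i (by omega) (by rw [flen35]; omega)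
    by_cases c36 : i < 74000
    · exact data.finalsOK_elim finals36 i (by omega) (by rw [flen36]; omega)
    by_cases c37 : i < 76000
    · exact data.finalsOK_elim finals37 i (by omega) (by rw [flen37]; omega)
    by_cases c38 : i < 78000
    · exact data.finalsOK_elim finals38 i (by omega) (by rw [flen38]; omega)
    by_cases c39 : i < 80000
    · exact data.finalsOK_elim finals39 i (by omega) (by rw [flen39]; omega)
    by_cases c40 : i < 82000
    · exact data.finalsOK_elim finals40 i (by omega) (by rw [flen40]; omega)
    by_cases c41 : i < 84000
    · exact data.finalsOK_elim finals41 i (by omega) (by rw [flen41]; omega)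
    by_cases c42 : i < 86000
    · exact data.finalsOK_elim finals42 i (by omega) (by rw [flen42]; omega)
    by_cases c43 : i < 88000
    · exact data.finalsOK_elim finals43 i (by omega) (by rw [flen43]; omega)
    by_cases c44 : i < 90000
    · exact data.finalsOK_elim finals44 i (by omega) (by rw [flen44]; omega)
    by_cases c45 : i < 92000
    · exact data.finalsOK_elim finals45 i (by omega) (by rw [flen45]; omega)
    by_cases c46 : i < 94000
    · exact data.finalsOK_elim finals46 i (by omega) (by rw [flen46]; omega)
    by_cases c47 : i < 96000
    · exact data.finalsOK_elim finals47 i (by omega) (by rw [flen47]; omega)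
    by_cases c48 : i < 98000
    · exact data.finalsOK_elim finals48 i (by omega) (by rw [flen48]; omega)
    by_cases c49 : i < 100000
    · exact data.finalsOK_elim finals49 i (by omega) (by rw [flen49]; omega)
    by_cases c50 : i < 102000
    · exact data.finalsOK_elim finals50 i (by omega) (by rw [flen50]; omega)
    by_cases c51 : i < 104000
    · exact data.finalsOK_elim finals51 i (by omega) (by rw [flen51]; omega)
    by_cases c52 : i < 106000
    · exact data.finalsOK_elim finals52 i (by omega) (by rw [flen52]; omega)
    by_cases c53 : i < 108000
    · exact data.finalsOK_elim finals53 i (by omega) (by rw [flen53]; omega)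
    by_cases c54 : i < 110000
    · exact data.finalsOK_elim finals54 i (by omega) (by rw [flen54]; omega)
    by_cases c55 : i < 112000
    · exact data.finalsOK_elim finals55 i (by omega) (by rw [flen55]; omega)
    by_cases c56 : i < 114000
    · exact data.finalsOK_elim finals56 i (by omega) (by rw [flen56]; omega)
    by_cases c57 : i < 116000
    · exact data.finalsOK_elim finals57 i (by omega) (by rw [flen57]; omega)
    by_cases c58 : i < 118000
    · exact data.finalsOK_elim finals58 i (by omega) (by rw [flen58]; omega)
    by_cases c59 : i < 120000
    · exact data.finalsOK_elim finals59 i (by omega) (by rw [flen59]; omega)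
    by_cases c60 : i < 122000
    · exact data.finalsOK_elim finals60 i (by omega) (by rw [flen60]; omega)
    by_cases c61 : i < 124000
    · exact data.finalsOK_elim finals61 i (by omega) (by rw [flen61]; omega)
    by_cases c62 : i < 126000
    · exact data.finalsOK_elim finals62 i (by omega) (by rw [flen62]; omega)
    by_cases c63 : i < 128000
    · exact data.finalsOK_elim finals63 i (by omega) (by rw [flen63]; omega)
    by_cases c64 : i < 130000
    · exact data.finalsOK_elim finals64 i (by omega) (by rw [flen64]; omega)
    by_cases c65 : i < 132000
    · exact data.finalsOK_elim finals65 i (by omega) (by rw [flen65]; omega)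
    by_cases c66 : i < 134000
    · exact data.finalsOK_elim finals66 i (by omega) (by rw [flen66]; omega)
    by_cases c67 : i < 136000
    · exact data.finalsOK_elim finals67 i (by omega) (by rw [flen67]; omega)
    by_cases c68 : i < 138000
    · exact data.finalsOK_elim finals68 i (by omega) (by rw [flen68]; omega)
    by_cases c69 : i < 140000
    · exact data.finalsOK_elim finals69 i (by omega) (by rw [flen69]; omega)
    by_cases c70 : i < 142000
    · exact data.finalsOK_elim finals70 i (by omega) (by rw [flen70]; omega)
    by_cases c71 : i < 144000
    · exact data.finalsOK_elim finals71 i (by omega) (by rw [flen71]; omega)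
    by_cases c72 : i < 146000
    · exact data.finalsOK_elim finals72 i (by omega) (by rw [flen72]; omega)
    by_cases c73 : i < 148000
    · exact data.finalsOK_elim finals73 i (by omega) (by rw [flen73]; omega)
    by_cases c74 : i < 150000
    · exact data.finalsOK_elim finals74 i (by omega) (by rw [flen74]; omega)
    by_cases c75 : i < 152000
    · exact data.finalsOK_elim finals75 i (by omega) (by rw [flen75]; omega)
    by_cases c76 : i < 154000
    · exact data.finalsOK_elim finals76 i (by omega) (by rw [flen76]; omega)
    by_cases c77 : i < 156000
    · exact data.finalsOK_elim finals77 i (by omega) (by rw [flen77]; omega)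
    by_cases c78 : i < 158000
    · exact data.finalsOK_elim finals78 i (by omega) (by rw [flen78]; omega)
    by_cases c79 : i < 160000
    · exact data.finalsOK_elim finals79 i (by omega) (by rw [flen79]; omega)
    exact data.finalsOK_elim finals80 i (by omega) (by rw [flen80]; omega)
  fixes := by decide +kernel

end CfsgLib.ThreeTrans.CosetIndex.Suz22880
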